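import Cfsg.Agent.Lib.Helper9.TC2Pack

set_option autoImplicit false
set_option maxRecDepth 100000

namespace Cfsg.Agent.Helper9.TCData.S44C2
open Cfsg.Agent.Helper9.TC2
noncomputable def entT_0 : BT := (BT.node 2 (BT.leaf 0xa253ce27c0e862fc1a5b0a65abb123a064527a0a190224a39020021) (BT.leaf 0x9a324259c7279ae31d7b6e592a2155a6a38a610d396618220051862))

noncomputable def cerT_0 : BT := (BT.node 2 (BT.leaf 0x9a0a0a0a08) (BT.leaf 0xa0a0a0a0a0))

noncomputable def lkT_0 : BT := (BT.leaf 0x0)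

noncomputable def lcT_0 : BT := (BT.leaf 0x0)

noncomputable def pnT_0 : BT := (BT.leaf 0xc703ceb6c2caa681c69640c2860000)

noncomputable def clsT_0 : BT := (BT.leaf 0x9ca307b9ac5a928398a418820)

noncomputable def repT_0 : BT := (BT.leaf 0x9ca307b9ac5a928398a418820)

noncomputable def tauT_0 : BT := (BT.node 2 (BT.leaf 0x94dee8c16a6b0e64a06229001) (BT.leaf 0x8c2726b1ee4a16a290e608062))


end Cfsg.Agent.Helper9.TCData.S44C2
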